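import Cfsg.Agent.SUThreeMax.MonHom
import Cfsg.Agent.DecompMax.UnitFrame

/-!
Stabilisers of orthonormal frames are maximal in `SU_3(q)` for `q ≠ 5`.
-/

set_option autoImplicit false
set_option maxHeartbeats 1000000

namespace Cfsg.Agent.SUThreeMax

open Matrix Cfsg.Geo Cfsg.Agent.Classical.U Cfsg.Agent.ClassicalMax Cfsg.Agent.GeoClasses
open Cfsg.Agent.DecompMax Cfsg.Agent.DecompMax.UF Cfsg.Agent.DecompMax.UCount
open scoped MatrixGroups Matrix

universe u

variable {F : Type u} [Field F] {q : ℕ} (hF : SqField F q)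
include hF

theorem exists_diag {M : Subgroup (UG 3 F q)} (hM : ∀ g ∈ SUG 3 F q, MonU g → g ∈ M)
    (l : Fin 3 → F) (hl : ∀ i, l i * l i ^ q = 1) (hp : l 0 * l 1 * l 2 = 1) :
    ∃ t ∈ M, ∀ v i, t.1 v i = l i * v i := by
  refine ⟨dia hF fun i => NU.mk (l i) (hl i), hM _ (dia_mem_SUG hF ?_) (monU_mon hF _ _),
    fun v i => by rw [dia_apply, NU.mk_val]⟩
  rw [Fin.prod_univ_three]
  exact Subtype.ext (Units.ext (by simpa using hp))

/-- The scalar triple `(μ⁻², μ, μ)` placed at `c`. -/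
theorem pair_triple {μ : F} (hμ : μ * μ ^ q = 1) (c : Fin 3) :
    (∀ i, (fun i => if i = c then μ ^ q * μ ^ q else μ) i *
      (fun i => if i = c then μ ^ q * μ ^ q else μ) i ^ q = 1) ∧
    (fun i => if i = c then μ ^ q * μ ^ q else μ) 0 * (fun i => if i = c then μ ^ q * μ ^ q else μ) 1 *
      (fun i => if i = c then μ ^ q * μ ^ q else μ) 2 = 1 := by
  constructor
  · intro i
    dsimp only
    split_ifs
    · rw [mul_pow, hF.pow_pow]; linear_combination (μ * μ ^ q + 1) * hμ
    · exact hμ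
  · fin_cases c <;> simp <;> linear_combination (μ * μ ^ q + 1) * hμ

theorem homs_std {M : Subgroup (UG 3 F q)} (hM : ∀ g ∈ SUG 3 F q, MonU g → g ∈ M) (j : Fin 3) :
    Homs q M (sv F j) := by
  refine ⟨by rw [Cfsg.Agent.DecompMax.UF.herm_sv hF]; simp, fun β hβ => ?_⟩
  obtain ⟨h1, h2⟩ := pair_triple hF hβ j
  obtain ⟨t, ht, htv⟩ := exists_diag hF hM _ h1 h2
  refine ⟨t, ht, fun v => funext fun i => ?_⟩
  rw [htv, Cfsg.Agent.DecompMax.UF.herm_sv hF]
  rcases eq_or_ne i j with rfl | hij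
  · simp; ring
  · simp [hij]

/-- Some member of the orbit of a non-monomial image is in general position. -/
theorem exists_good_pair (hq : 3 ≤ q) (hq5 : q ≠ 5) {M : Subgroup (UG 3 F q)}
    (hM : ∀ g ∈ SUG 3 F q, MonU g → g ∈ M) {x : Fin 3 → F} (hx : Homs q M x)
    {a b : Fin 3} (hab : a ≠ b) (ha : x a ≠ 0) (hb : x b ≠ 0) :
    ∃ y, Homs q M y ∧ herm q y x * herm q x y ≠ 0 ∧ herm q y x * herm q x y ≠ 1 ∧
      (q + 1 = 12 → 2 * (herm q y x * herm q x y) ≠ 1) := by
  classical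
  obtain ⟨e, hea, heb⟩ : ∃ e : Fin 3, e ≠ a ∧ e ≠ b := by
    fin_cases a <;> fin_cases b <;> simp at hab ⊢ <;> decide
  obtain ⟨N, hN⟩ : ∃ N : Fin 3 → F, ∀ i, N i = x i * x i ^ q := ⟨_, fun _ => rfl⟩
  have hNa : N a ≠ 0 := by rw [hN]; exact mul_ne_zero ha (pow_ne_zero _ ha)
  have hNb : N b ≠ 0 := by rw [hN]; exact mul_ne_zero hb (pow_ne_zero _ hb)
  have hNq : ∀ i, N i ^ q = N i := fun i => by rw [hN, mul_pow, hF.pow_pow, mul_comm]
  have hsum3 : N 0 + N 1 + N 2 = 1 := by
    have := hx.1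
    rw [herm_def, Fin.sum_univ_three, ← hN, ← hN, ← hN] at this
    exact this
  have hsum : N a + N b + N e = 1 := by
    rw [← hsum3]
    fin_cases a <;> fin_cases b <;> fin_cases e <;> simp at hab hea heb ⊢ <;> ring
  have hval : ∀ (l : Fin 3 → F) (t : UG 3 F q), (∀ v i, t.1 v i = l i * v i) →
      herm q (t.1 x) x = l a * N a + l b * N b + l e * N e := by
    intro l t ht
    rw [herm_def, Fin.sum_univ_three, ht, ht, ht]
    simp only [hN]
    fin_cases a <;> fin_cases b <;> fin_cases e <;> simp at hab hea heb ⊢ <;> ring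
  obtain ⟨μ, hμ, hμo, hk3, hk⟩ := exists_gen hF hq hq5
  have hμ0 : μ ≠ 0 := fun h => by rw [h, zero_mul] at hμ; exact zero_ne_one hμ
  have hinv : μ ^ q = μ⁻¹ := eq_inv_of_mul_eq_one_right hμ
  have hq11 : q = 11 → (2 : F) ≠ 0 ∧ (3 : F) ≠ 0 := fun h => by
    have h0 := Pl.cast_q hF
    subst h
    push_cast at h0
    exact ⟨fun h2 => one_ne_zero (by linear_combination h0 - 5 * h2 : (1 : F) = 0),
      fun h3 => one_ne_zero (by linear_combination 4 * h3 - h0 : (1 : F) = 0)⟩
  by_cases hgood : ∃ c, N c ≠ 0 ∧ N c ≠ 1 ∧ (q = 11 → 2 * N c ≠ 1)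
  · obtain ⟨c, hc0, hc1, hc2⟩ := hgood
    set N0 := N c with hN0
    have hval' : ∀ ν : F, ν * ν ^ q = 1 → ∃ y, Homs q M y ∧
        herm q y x * herm q x y =
          ((1 - N0) + (ν ^ 3)⁻¹ * N0) * ((1 - N0) + ν ^ 3 * N0) := by
      intro ν hν
      obtain ⟨h1, h2⟩ := pair_triple hF hν c
      obtain ⟨t, ht, htv⟩ := exists_diag hF hM _ h1 h2
      refine ⟨_, hx.map ht, ?_⟩
      have hν0 : ν ≠ 0 := fun h => by rw [h, zero_mul] at hν; exact zero_ne_one hν
      have hvq : herm q (t.1 x) x = ν * ((1 - N0) + (ν ^ 3)⁻¹ * N0) := by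
        rw [hval _ t htv, hN0, show ν ^ q = ν⁻¹ from eq_inv_of_mul_eq_one_right hν, ← hsum]
        field_simp
        fin_cases a <;> fin_cases b <;> fin_cases e <;> fin_cases c <;> simp at hab hea heb ⊢ <;>
          field_simp <;> ring
      rw [← hF.herm_symm (t.1 x) x, hvq, mul_pow, hF.add_pow, hF.sub_pow, one_pow, mul_pow, inv_pow,
        ← pow_mul ν 3 q, mul_comm 3 q, pow_mul ν q 3, hN0, hNq,
        show ν ^ q = ν⁻¹ from eq_inv_of_mul_eq_one_right hν, inv_pow, inv_inv]
      field_simp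
    set L := (μ ^ 3)⁻¹ with hL
    have hL0 : L ≠ 0 := inv_ne_zero (pow_ne_zero _ hμ0)
    have hL1 : L ≠ 1 := fun h => by rw [h, orderOf_one] at hk3; omega
    have hL2 : L ^ 2 ≠ 1 := fun h => by
      have := orderOf_le_of_pow_eq_one two_pos h
      omega
    have hone : ∀ K : F, K ≠ 0 → K ≠ 1 →
        ((1 - N0) + K * N0) * ((1 - N0) + K⁻¹ * N0) ≠ 1 := by
      intro K hK0 hK1 h
      field_simp at h
      have : (N0 * (1 - N0)) * ((K - 1) * (K - 1)) = 0 := by linear_combination h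
      simp [hc0, sub_ne_zero.2 (Ne.symm hc1), sub_ne_zero.2 hK1] at this
    obtain ⟨y1, hy1, hs1⟩ := hval' μ hμ
    obtain ⟨y2, hy2, hs2⟩ := hval' (μ ^ 2) (by rw [← pow_mul, mul_comm 2 q, pow_mul, ← mul_pow, hμ, one_pow])
    have e1 : μ ^ 3 = L⁻¹ := by rw [hL, inv_inv]
    have e2 : (μ ^ 2) ^ 3 = (L ^ 2)⁻¹ := by rw [hL, inv_pow, inv_inv, ← pow_mul, ← pow_mul]
    rw [e1, inv_inv] at hs1
    rw [e2, inv_inv] at hs2
    have hN1 := sub_ne_zero.2 (Ne.symm hc1)
    have h11 : q + 1 = 12 → L ^ 2 = -1 ∧ L⁻¹ = -L := fun h12 => by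
      have hL4 : L ^ 4 = 1 := by
        rw [hL, inv_pow, ← pow_mul, show 3 * 4 = orderOf μ by omega, pow_orderOf_eq_one, inv_one]
      have h2 : (L ^ 2 - 1) * (L ^ 2 + 1) = 0 := by linear_combination hL4
      have h3 : L ^ 2 = -1 :=
        eq_neg_of_add_eq_zero_left ((mul_eq_zero.1 h2).resolve_left (sub_ne_zero.2 hL2))
      exact ⟨h3, inv_eq_of_mul_eq_one_right (by linear_combination -h3)⟩
    by_cases hz : ((1 - N0) + L * N0) * ((1 - N0) + L⁻¹ * N0) = 0
    · refine ⟨y2, hy2, ?_, ?_, fun h12 => ?_⟩ <;> rw [hs2]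
      · intro h
        have hfirst : ∀ K : F, K ^ q = K⁻¹ → ((1 - N0) + K * N0) * ((1 - N0) + K⁻¹ * N0) = 0 →
            (1 - N0) + K * N0 = 0 := by
          intro K hK h0
          rcases mul_eq_zero.1 h0 with h' | h'
          · exact h'
          · have : ((1 - N0) + K * N0) ^ q = 0 := by
              rw [hF.add_pow, hF.sub_pow, one_pow, mul_pow, hK, hN0, hNq]; exact h'
            exact (pow_eq_zero_iff hF.q_ne_zero).1 this
        have hLq : L ^ q = L⁻¹ := by
          rw [hL, inv_pow, inv_inv, ← pow_mul, mul_comm 3 q, pow_mul, hinv, inv_pow, inv_inv]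
        have k1 := hfirst L hLq hz
        have k2 := hfirst (L ^ 2) (by rw [← pow_mul, mul_comm 2 q, pow_mul, hLq, inv_pow]) h
        have : L * (L - 1) * N0 = 0 := by linear_combination k2 - k1
        simp [hL0, sub_ne_zero.2 hL1, hc0] at this
      · exact hone _ (pow_ne_zero _ hL0) hL2
      · obtain ⟨h3, h4⟩ := h11 h12
        obtain ⟨t2, t3⟩ := hq11 (by omega)
        rw [h4] at hz
        rw [h3, inv_neg, inv_one]
        intro h
        exact t3 (by linear_combination 4 * hz - h + (4 * N0 * N0) * h3)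
    · refine ⟨y1, hy1, by rw [hs1]; exact hz, by rw [hs1]; exact hone L hL0 hL1, fun h12 => ?_⟩
      rw [hs1]
      obtain ⟨h3, h4⟩ := h11 h12
      rw [h4]
      intro h
      have : (2 * N0 - 1) * (2 * N0 - 1) = 0 := by linear_combination h + (2 * N0 * N0) * h3
      exact hc2 (by omega) (sub_eq_zero.1 ((mul_eq_zero.1 this).elim id id))
  push Not at hgood
  by_cases h11 : q = 11
  · obtain ⟨t2, t3⟩ := hq11 h11
    have hcases : ∀ c, N c = 0 ∨ N c = 1 ∨ 2 * N c = 1 := fun c => by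
      by_cases h0 : N c = 0
      · exact Or.inl h0
      by_cases h1 : N c = 1
      · exact Or.inr (Or.inl h1)
      exact Or.inr (Or.inr (hgood c h0 h1).2)
    have hab2 : 2 * N a = 1 ∧ 2 * N b = 1 ∧ N e = 0 := by
      rcases (hcases a).resolve_left hNa with h1 | h1 <;>
        rcases (hcases b).resolve_left hNb with h2 | h2 <;> rcases hcases e with h3 | h3 | h3
      all_goals first
        | exact ⟨h1, h2, h3⟩
        | (exfalso; exact one_ne_zero (show (1 : F) = 0 by linear_combination hsum - h1 - h2 - h3))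
        | (exfalso; exact t2 (by linear_combination hsum - h1 - h2 - h3))
        | (exfalso; exact t2 (by linear_combination 2 * hsum - 2 * h1 - 2 * h2 - h3))
        | (exfalso; exact t3 (by linear_combination 2 * hsum - 2 * h1 - 2 * h2 - h3))
        | (exfalso; exact t3 (by linear_combination 2 * hsum - 2 * h1 - h2 - 2 * h3))
        | (exfalso; exact t3 (by linear_combination 2 * hsum - h1 - 2 * h2 - 2 * h3))
        | (exfalso; exact t2 (by linear_combination 2 * hsum - 2 * h1 - h2 - h3))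
        | (exfalso; exact t2 (by linear_combination 2 * hsum - h1 - 2 * h2 - h3))
        | (exfalso; exact t2 (by linear_combination 2 * hsum - h1 - h2 - 2 * h3))
        | (exfalso; exact one_ne_zero (show (1 : F) = 0 by linear_combination 2 * hsum - 2 * h1 - h2 - 2 * h3))
        | (exfalso; exact one_ne_zero (show (1 : F) = 0 by linear_combination 2 * hsum - h1 - 2 * h2 - 2 * h3))
        | (exfalso; exact one_ne_zero (show (1 : F) = 0 by linear_combination 2 * hsum - h1 - h2 - h3))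
    obtain ⟨ha2, hb2, he0⟩ := hab2
    obtain ⟨t, ht, htv⟩ := exists_diag hF hM (fun i => if i = a then μ else if i = b then μ ^ q else 1)
      (fun i => by
        split_ifs
        · exact hμ
        · rw [hF.pow_pow, mul_comm]; exact hμ
        · rw [one_pow, one_mul])
      (by fin_cases a <;> fin_cases b <;> simp at hab ⊢ <;> linear_combination hμ)
    have hv : herm q (t.1 x) x = μ * N a + μ ^ q * N b := by
      rw [hval _ t htv, he0]
      simp [Ne.symm hab, hea, heb]
    have hsq : (μ ^ 2) ^ 2 - μ ^ 2 + 1 = 0 := by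
      have h12 : orderOf μ = 12 := by omega
      have h6 : μ ^ 12 = 1 := h12 ▸ pow_orderOf_eq_one μ
      have hne : ∀ m, 0 < m → m < 12 → μ ^ m ≠ 1 := fun m h0 hm h => by
        have := orderOf_le_of_pow_eq_one h0 h; omega
      have h6' : (μ ^ 6 - 1) * (μ ^ 6 + 1) = 0 := by linear_combination h6
      have h6'' : ((μ ^ 2) ^ 2 - μ ^ 2 + 1) * (μ ^ 2 + 1) = 0 := by
        linear_combination (mul_eq_zero.1 h6').resolve_left (sub_ne_zero.2 (hne 6 (by norm_num) (by norm_num)))
      refine (mul_eq_zero.1 h6'').resolve_right fun h => hne 4 (by norm_num) (by norm_num) ?_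
      linear_combination (μ ^ 2 - 1) * h
    have h4s : 4 * (herm q (t.1 x) x * herm q x (t.1 x)) = 3 := by
      rw [← hF.herm_symm (t.1 x) x, hv, hF.add_pow, mul_pow, mul_pow, hF.pow_pow, hNq, hNq, hinv]
      field_simp
      linear_combination ((2 * N a + 1) * μ ^ 2 + (μ ^ 4 + 1) * (2 * N b)) * ha2 +
        (μ ^ 2 * (2 * N b + 1) + (μ ^ 4 + 1)) * hb2 + hsq
    refine ⟨_, hx.map ht, fun h => ?_, fun h => ?_, fun _ h => ?_⟩
    · exact t3 (by linear_combination -h4s + 4 * h)
    · exact one_ne_zero (show (1 : F) = 0 by linear_combination h4s - 4 * h)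
    · exact one_ne_zero (show (1 : F) = 0 by linear_combination -h4s + 2 * h)
  -- all entries of norm one in characteristic two
  have hcases : ∀ c, N c = 0 ∨ N c = 1 := fun c => by
    by_cases h0 : N c = 0
    · exact Or.inl h0
    · exact Or.inr (by_contra fun h1 => h11 (hgood c h0 h1).1)
  have hNa1 := (hcases a).resolve_left hNa
  have hNb1 := (hcases b).resolve_left hNb
  have hNe1 : N e = 1 := (hcases e).resolve_left fun h =>
    one_ne_zero (show (1 : F) = 0 by linear_combination hsum - hNa1 - hNb1 - h)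
  have h20 : (2 : F) = 0 := by linear_combination hsum - hNa1 - hNb1 - hNe1
  obtain ⟨t, ht, htv⟩ := exists_diag hF hM (fun i => if i = a then μ else if i = b then μ ^ q else 1)
    (fun i => by
      split_ifs
      · exact hμ
      · rw [hF.pow_pow, mul_comm]; exact hμ
      · rw [one_pow, one_mul])
    (by fin_cases a <;> fin_cases b <;> simp at hab ⊢ <;> linear_combination hμ)
  have hv : herm q (t.1 x) x = μ + μ ^ q + 1 := by
    rw [hval _ t htv, hNa1, hNb1, hNe1]
    simp [Ne.symm hab, hea, heb]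
  have hss : herm q (t.1 x) x * herm q x (t.1 x) = (μ + μ⁻¹ + 1) ^ 2 := by
    rw [← hF.herm_symm (t.1 x) x, hv, hF.add_pow, hF.add_pow, hF.pow_pow, one_pow, hinv]
    ring
  have hpow : ∀ m, 0 < m → m ≤ q → μ ^ m ≠ 1 := fun m h0 hm h => by
    have := orderOf_le_of_pow_eq_one h0 h; omega
  refine ⟨_, hx.map ht, fun h => ?_, fun h => ?_, fun h12 => absurd (show q = 11 by omega) h11⟩ <;>
    rw [hss] at h
  · have h2 : μ + μ⁻¹ + 1 = 0 := pow_eq_zero_iff two_ne_zero |>.1 h
    field_simp at h2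
    exact hpow 3 (by norm_num) hq (by linear_combination (μ - 1) * h2)
  · have h2 : (μ + μ⁻¹) ^ 2 = 0 := by linear_combination h - (μ + μ⁻¹) * h20
    have h3 : μ + μ⁻¹ = 0 := pow_eq_zero_iff two_ne_zero |>.1 h2
    field_simp at h3
    exact hpow 2 (by norm_num) (by omega) (by linear_combination h3 - h20)

/-- An overgroup of the monomial group with a non-monomial element contains `SU_3`. -/
theorem SUG_le_of_not_mon (hq : 3 ≤ q) (hq5 : q ≠ 5) {M : Subgroup (UG 3 F q)}
    (hM : ∀ g ∈ SUG 3 F q, MonU g → g ∈ M) {g0 : UG 3 F q} (hg0 : g0 ∈ M) (hnm : ¬ MonU g0) :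
    SUG 3 F q ≤ M := by
  obtain ⟨j, a, b, hab, ha, hb⟩ : ∃ j a b, a ≠ b ∧ g0.1 (sv F j) a ≠ 0 ∧ g0.1 (sv F j) b ≠ 0 := by
    by_contra hcon
    push Not at hcon
    refine hnm fun j => ?_
    by_cases h : ∃ a, g0.1 (sv F j) a ≠ 0
    · obtain ⟨a, ha⟩ := h
      exact ⟨a, fun l hl => hcon j a l (Ne.symm hl) ha⟩
    · push Not at h
      exact ⟨0, fun l _ => h l⟩
  have hx := (homs_std hF hM j).map hg0
  obtain ⟨y, hy, hs0, hs1, hs2⟩ := exists_good_pair hF hq hq5 hM hx hab ha hb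
  obtain ⟨D, -, -, he, hf⟩ := centres_of_two_homs hF hq hq5 hx hy hs0 hs1 hs2
  obtain ⟨g, hg, hgz⟩ : ∃ g ∈ M, ∀ c : F, g.1 D.z ≠ c • D.z := by
    by_contra hcon
    push Not at hcon
    obtain ⟨i, hi⟩ : ∃ i, D.z i ≠ 0 := by
      by_contra hz
      push Not at hz
      exact D.hz (by rw [show D.z = 0 from funext hz, herm_zero_left])
    set π : Equiv.Perm (Fin 3) := finRotate 3
    have hπ : mon hF π (fun _ => (1 : NU F q)) ∈ SUG 3 F q := mon_mem_SUG hF (by
      rw [show Equiv.Perm.sign π = 1 by decide]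
      simp)
    obtain ⟨c, hc⟩ := hcon _ (hM _ hπ (monU_mon hF _ _))
    have hcyc : ∀ k, D.z k = c * D.z (π k) := fun k => by
      have h := congrFun hc (π k)
      rw [mon_apply, Pi.smul_apply, smul_eq_mul] at h
      simpa using h
    have hnz : ∀ k, D.z k ≠ 0 := by
      have h0 := hcyc 0; have h1 := hcyc 1; have h2 := hcyc 2
      rw [show π 0 = 1 by decide] at h0
      rw [show π 1 = 2 by decide] at h1
      rw [show π 2 = 0 by decide] at h2
      intro k hk
      have hall : D.z 0 = 0 ∧ D.z 1 = 0 ∧ D.z 2 = 0 := by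
        fin_cases k <;> simp at hk
        · rw [hk, mul_zero] at h2; rw [h2, mul_zero] at h1; exact ⟨hk, h1, h2⟩
        · rw [hk, mul_zero] at h0; rw [h0, mul_zero] at h2; exact ⟨h0, hk, h2⟩
        · rw [hk, mul_zero] at h1; rw [h1, mul_zero] at h0; exact ⟨h0, h1, hk⟩
      fin_cases i <;> simp [hall] at hi
    obtain ⟨μ, hμ, hμo, hk3, -⟩ := exists_gen hF hq hq5
    obtain ⟨h1, h2⟩ := pair_triple hF hμ 0
    obtain ⟨t, ht, htv⟩ := exists_diag hF hM _ h1 h2
    obtain ⟨c', hc'⟩ := hcon t ht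
    have e0 := congrFun hc' 0
    have e1 := congrFun hc' 1
    rw [htv, Pi.smul_apply, smul_eq_mul] at e0 e1
    simp [hnz 0, hnz 1] at e0 e1
    have h3 : μ ^ 3 = 1 := by
      rw [eq_inv_of_mul_eq_one_right hμ, ← e1] at e0
      have hμ0 : μ ≠ 0 := fun h => by rw [h, zero_mul] at hμ; exact zero_ne_one hμ
      field_simp at e0
      linear_combination -e0
    rw [h3, inv_one, orderOf_one] at hk3
    omega
  have hsp : ∀ a b : F, herm q (a • D.e + b • D.f) D.z = 0 := fun a b => by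
    rw [herm_add_left, herm_smul_left, herm_smul_left, D.hez, D.hfz]; ring
  have hef : herm q D.e D.f ≠ 0 := by rw [D.hef]; exact D.hη0
  by_cases h1 : herm q (g.1 D.e) D.z = 0
  · by_cases h2 : herm q (g.1 D.f) D.z = 0
    · exfalso
      obtain ⟨w, hw⟩ := g.1.surjective D.z
      have e1 : herm q w D.e = 0 := by
        rw [← UG_app g, hw, ← hF.herm_symm, h1, zero_pow hF.q_ne_zero]
      have e2 : herm q w D.f = 0 := by
        rw [← UG_app g, hw, ← hF.herm_symm, h2, zero_pow hF.q_ne_zero]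
      have hd := D.decomp hF w
      rw [Pl.cA, Pl.cB, e1, e2, neg_zero, zero_div, zero_smul, zero_smul, zero_add, zero_add] at hd
      rw [hd, map_smul] at hw
      have hz0 : D.z ≠ 0 := fun h => D.hz (by rw [h, herm_zero_left])
      have hc0 : herm q w D.z / herm q D.z D.z ≠ 0 := fun h => hz0 (by rw [← hw, h, zero_smul])
      exact hgz _ ((eq_inv_smul_iff₀ hc0).2 hw)
    · exact SUG_le_of_three_centres hF hq he hf hef (map_mem_trvCentres hF hf hg)
        fun a b hab => h2 (by rw [hab]; exact hsp a b)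
  · exact SUG_le_of_three_centres hF hq he hf hef (map_mem_trvCentres hF he hg)
      fun a b hab => h1 (by rw [hab]; exact hsp a b)

/-- Stabilisers of orthonormal frames are maximal. -/
theorem monomial_maximal (hq : 3 ≤ q) (hq5 : q ≠ 5) {D : Fin 3 → Submodule F (Fin 3 → F)}
    (hD : IsNondegenerateMDecomposition (Cfsg.hermForm 3 F q) 1 D) :
    IsMaximalIn (suGL 3 F q) (decompositionStabilizer D ⊓ suGL 3 F q) := by
  classical
  obtain ⟨e, P, he⟩ := exists_frame_iso hF hD
  refine ⟨lt_of_le_not_ge inf_le_right fun hle => suGL_not_le_frameStabilizer hF le_rfl (by omega) hD rfl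
    (hle.trans inf_le_left), fun M hM hMK => ?_⟩
  by_cases hMD : M ≤ decompositionStabilizer D
  · exact Or.inl (le_antisymm (le_inf hMD hMK) hM)
  refine Or.inr (le_antisymm hMK (suGL_le_of_SUG_le ?_))
  set M' := M.comap (ugToGL 3 F q) with hM'
  set c : UG 3 F q →* UG 3 F q := (MulAut.conj P).toMonoidHom
  set M'' := M'.comap c
  have hmono : ∀ g ∈ SUG 3 F q, MonU g → g ∈ M'' := fun g hg hgm => by
    refine hM ⟨mem_stabilizer_of_forall_mem hD.decomp fun i x hx => ?_,
      ugToGL_mem_suGL ((SUG_normal).conj_mem g hg P)⟩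
    obtain ⟨a, rfl⟩ := e.surjective i
    rw [he] at hx
    obtain ⟨s, rfl⟩ := Submodule.mem_span_singleton.1 hx
    obtain ⟨j, hj⟩ := hgm a
    refine ⟨e j, ?_⟩
    have hga : g.1 (sv F a) = g.1 (sv F a) j • sv F j := funext fun l => by
      rcases eq_or_ne l j with rfl | hl
      · simp
      · simp [hj l hl, Pi.single_eq_of_ne hl]
    rw [ugToGL_mulVec, map_smul]
    refine Submodule.smul_mem _ _ ?_
    show P.1 (g.1 ((P⁻¹ : UG 3 F q).1 (P.1 (sv F a)))) ∈ D (e j)
    rw [inv_app hF, hga, map_smul, he]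
    exact Submodule.smul_mem _ _ (Submodule.mem_span_singleton_self _)
  obtain ⟨g1, hg1M, hg1D⟩ := SetLike.not_le_iff_exists.1 hMD
  obtain ⟨g, -, rfl⟩ := exists_ugToGL_eq (hMK hg1M)
  set g0 := P⁻¹ * g * P
  have hg0 : g0 ∈ M'' := by
    show P * (P⁻¹ * g * P) * P⁻¹ ∈ M'
    rw [show P * (P⁻¹ * g * P) * P⁻¹ = g by group]
    exact hg1M
  have hg0m : ¬ MonU g0 := fun hm => hg1D (mem_stabilizer_of_forall_mem hD.decomp fun i x hx => by
    obtain ⟨a, rfl⟩ := e.surjective i
    rw [he] at hx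
    obtain ⟨s, rfl⟩ := Submodule.mem_span_singleton.1 hx
    obtain ⟨j, hj⟩ := hm a
    refine ⟨e j, ?_⟩
    have hga : g0.1 (sv F a) = g0.1 (sv F a) j • sv F j := funext fun l => by
      rcases eq_or_ne l j with rfl | hl
      · simp
      · simp [hj l hl, Pi.single_eq_of_ne hl]
    rw [ugToGL_mulVec, map_smul]
    refine Submodule.smul_mem _ _ ?_
    have : g.1 (P.1 (sv F a)) = P.1 (g0.1 (sv F a)) := (app_inv hF P _).symm
    rw [this, hga, map_smul, he]
    exact Submodule.smul_mem _ _ (Submodule.mem_span_singleton_self _))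
  have hS'' := SUG_le_of_not_mon hF hq hq5 hmono hg0 hg0m
  intro g hg
  have hconj : P⁻¹ * g * P ∈ SUG 3 F q := by
    have := (SUG_normal).conj_mem g hg P⁻¹
    rwa [inv_inv] at this
  have h := hS'' hconj
  change P * (P⁻¹ * g * P) * P⁻¹ ∈ M' at h
  rwa [show P * (P⁻¹ * g * P) * P⁻¹ = g by group] at h

end Cfsg.Agent.SUThreeMax
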